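import Cfsg.Agent.Lib.Involution.Isolated
import Cfsg.Agent.Lib.Invol.Basic
import Cfsg.Agent.Lib.Components.Quasisimple
import Cfsg.Prelude.Def_Local

/-!
Two commuting involutory actions on a group of odd order with the same fixed points have a product
which acts trivially; first facts on tightly embedded and standard subgroups.
-/

namespace Cfsg.Agent.StdSub

open Subgroup Cfsg.Agent.Involution.Isolated

variable {G : Type*} [Group G]

theorem odd_orderOf_of_mem {N : Subgroup G} (hN : Odd (Nat.card N)) {x : G} (hx : x ∈ N) :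
    Odd (orderOf x) :=
  hN.of_dvd_nat ((Subgroup.orderOf_mk x hx).symm ▸ orderOf_dvd_natCard (⟨x, hx⟩ : N))

theorem conj_pow_of_invol {t : G} (ht : t * t = 1) (x : G) (n : ℕ) :
    t * x ^ n * t = (t * x * t) ^ n := by
  have hti : t⁻¹ = t := inv_eq_of_mul_eq_one_right ht
  have := conj_pow (i := n) (a := t) (b := x)
  rw [hti] at this
  exact this.symm

theorem conj_oddRoot_of_inverted {t x : G} (ht : t * t = 1) (h : t * x * t = x⁻¹) :
    t * oddRoot x * t = (oddRoot x)⁻¹ := by
  rw [oddRoot, conj_pow_of_invol ht, h, inv_pow]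

/-- If two commuting involutory elements normalise a subgroup `N` of odd order and have the same
fixed points on it, then their product centralises `N`. -/
theorem commute_mul_of_same_fixed {N : Subgroup G} (hN : Odd (Nat.card N)) {t u : G}
    (ht : t * t = 1) (hu : u * u = 1) (htu : t * u = u * t)
    (htN : ∀ x ∈ N, t * x * t ∈ N) (huN : ∀ x ∈ N, u * x * u ∈ N)
    (hfix : ∀ x ∈ N, t * x * t = x ↔ u * x * u = x) :
    ∀ x ∈ N, (t * u) * x = x * (t * u) := by
  -- conjugation by `t` is multiplicative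
  have mulT : ∀ a b : G, t * (a * b) * t = (t * a * t) * (t * b * t) := fun a b => by
    simp only [mul_assoc]; rw [← mul_assoc t t, ht, one_mul]
  have mulU : ∀ a b : G, u * (a * b) * u = (u * a * u) * (u * b * u) := fun a b => by
    simp only [mul_assoc]; rw [← mul_assoc u u, hu, one_mul]
  have invT : ∀ a : G, t * a⁻¹ * t = (t * a * t)⁻¹ := fun a => by
    simp only [mul_inv_rev, inv_eq_of_mul_eq_one_right ht, mul_assoc]
  have invU : ∀ a : G, u * a⁻¹ * u = (u * a * u)⁻¹ := fun a => by
    simp only [mul_inv_rev, inv_eq_of_mul_eq_one_right hu, mul_assoc]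
  have comm : ∀ a : G, t * (u * a * u) * t = u * (t * a * t) * u := fun a => by
    simp only [← mul_assoc]; rw [htu]
    simp only [mul_assoc]; rw [htu]
  have idT : ∀ a : G, t * (t * a * t) * t = a := fun a => by
    simp only [← mul_assoc]; rw [ht, one_mul, mul_assoc, ht, mul_one]
  have idU : ∀ a : G, u * (u * a * u) * u = a := fun a => by
    simp only [← mul_assoc]; rw [hu, one_mul, mul_assoc, hu, mul_one]
  have odd : ∀ {a : G}, a ∈ N → Odd (orderOf a) := fun h => odd_orderOf_of_mem hN h
  have root : ∀ {a : G}, a ∈ N → oddRoot a ∈ N := fun h => N.pow_mem h _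
  -- on inverted elements the product acts trivially
  have key : ∀ x ∈ N, t * x * t = x⁻¹ → u * x * u = x⁻¹ := by
    intro x hx hxt
    let x' := t * (u * x * u) * t
    have hx' : x' ∈ N := htN _ (huN _ hx)
    have hx't : t * x' * t = x'⁻¹ := by
      show t * (t * (u * x * u) * t) * t = (t * (u * x * u) * t)⁻¹
      rw [idT, comm, hxt, invU, inv_inv]
    let y0 := oddRoot x
    have hy0 : y0 * y0 = x := oddRoot_mul_self (odd hx)
    have hy0t : t * y0 * t = y0⁻¹ := conj_oddRoot_of_inverted ht hxt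
    let w := y0⁻¹ * x' * y0⁻¹
    have hw : w ∈ N := N.mul_mem (N.mul_mem (N.inv_mem (root hx)) hx') (N.inv_mem (root hx))
    have hwt : t * w * t = w⁻¹ := by
      show t * (y0⁻¹ * x' * y0⁻¹) * t = (y0⁻¹ * x' * y0⁻¹)⁻¹
      rw [mulT, mulT, invT, hy0t, hx't]; group
    let e := oddRoot w
    let m := y0 * e * y0
    have hm : m ∈ N := N.mul_mem (N.mul_mem (root hx) (root hw)) (root hx)
    have hmt : t * m * t = m⁻¹ := by
      show t * (y0 * e * y0) * t = (y0 * e * y0)⁻¹
      rw [mulT, mulT, hy0t, conj_oddRoot_of_inverted ht hwt]; group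
      rfl
    have hmx : m * x⁻¹ * m = x' := by
      show y0 * e * y0 * x⁻¹ * (y0 * e * y0) = x'
      rw [← hy0]
      calc y0 * e * y0 * (y0 * y0)⁻¹ * (y0 * e * y0) = y0 * (e * e) * y0 := by group
        _ = y0 * w * y0 := by rw [oddRoot_mul_self (odd hw)]
        _ = x' := by simp only [w]; group
    have huniq : ∀ m' ∈ N, m' * x⁻¹ * m' = x' → m' = m := by
      intro m' hm' h'
      have hsq : ∀ a : G, (y0⁻¹ * a * y0⁻¹) * (y0⁻¹ * a * y0⁻¹) = y0⁻¹ * (a * x⁻¹ * a) * y0⁻¹ :=
        fun a => by rw [← hy0]; group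
      have := sq_inj (a := y0⁻¹ * m' * y0⁻¹) (b := y0⁻¹ * m * y0⁻¹)
        (odd (N.mul_mem (N.mul_mem (N.inv_mem (root hx)) hm') (N.inv_mem (root hx))))
        (odd (N.mul_mem (N.mul_mem (N.inv_mem (root hx)) hm) (N.inv_mem (root hx))))
        (by rw [hsq, hsq, h', hmx])
      simpa using this
    have hvx' : t * (u * x' * u) * t = x := by
      show t * (u * (t * (u * x * u) * t) * u) * t = x
      rw [← comm, idT, idU]
    have hmv : t * (u * m * u) * t = m := by
      have hm'' : t * (u * m * u) * t ∈ N := htN _ (huN _ hm)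
      refine huniq _ hm'' ?_
      have mulV : ∀ p q : G, t * (u * (p * q) * u) * t
          = (t * (u * p * u) * t) * (t * (u * q * u) * t) := fun p q => by rw [mulU, mulT]
      have invV : ∀ p : G, t * (u * p⁻¹ * u) * t = (t * (u * p * u) * t)⁻¹ := fun p => by
        rw [invU, invT]
      have h := congrArg (fun a => t * (u * a * u) * t) hmx
      rw [mulV, mulV, invV, hvx'] at h
      rw [← h]
      simp only [x']
      group
    have hmu : u * m * u = m⁻¹ := by
      rw [← idT (u * m * u), hmv, hmt]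
    have hxu : u * x * u = x'⁻¹ := by rw [← idT (u * x * u)]; exact hx't
    let a := oddRoot m
    have ha : a * a = m := oddRoot_mul_self (odd hm)
    let y := a⁻¹ * x * a⁻¹
    have hy : y ∈ N := N.mul_mem (N.mul_mem (N.inv_mem (root hm)) hx) (N.inv_mem (root hm))
    have hyt : t * y * t = y⁻¹ := by
      show t * (a⁻¹ * x * a⁻¹) * t = (a⁻¹ * x * a⁻¹)⁻¹
      rw [mulT, mulT, invT, conj_oddRoot_of_inverted ht hmt, hxt]; group
      rfl
    have hyu : u * y * u = y := by
      show u * (a⁻¹ * x * a⁻¹) * u = a⁻¹ * x * a⁻¹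
      rw [mulU, mulU, invU, conj_oddRoot_of_inverted hu hmu, hxu, ← hmx]
      have h4 : m⁻¹ = a⁻¹ * a⁻¹ := by rw [← ha, mul_inv_rev]
      rw [show (m * x⁻¹ * m)⁻¹ = m⁻¹ * x * m⁻¹ by group, h4]
      show a⁻¹⁻¹ * (a⁻¹ * a⁻¹ * x * (a⁻¹ * a⁻¹)) * a⁻¹⁻¹ = a⁻¹ * x * a⁻¹
      group
    have hy1 : y = 1 := eq_one_of_eq_inv (odd hy) (((hfix y hy).mpr hyu).symm.trans hyt)
    have hxm : x = m := by
      rw [← ha]
      calc x = a * y * a := by simp only [y]; group
        _ = a * a := by rw [hy1, mul_one]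
    rw [hxm]; exact hmu
  intro x hx
  let k := x⁻¹ * (t * x * t)
  have hk : k ∈ N := N.mul_mem (N.inv_mem hx) (htN x hx)
  have hkt : t * k * t = k⁻¹ := by
    show t * (x⁻¹ * (t * x * t)) * t = (x⁻¹ * (t * x * t))⁻¹
    rw [mulT, idT, invT]; group
  let e := oddRoot k
  have he : e ∈ N := root hk
  have het : t * e * t = e⁻¹ := conj_oddRoot_of_inverted ht hkt
  have hzt : t * (x * e) * t = x * e := by
    rw [mulT, het]
    calc t * x * t * e⁻¹ = x * k * e⁻¹ := by simp only [k]; group
      _ = x * (e * e) * e⁻¹ := by rw [oddRoot_mul_self (odd hk)]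
      _ = x * e := by group
  have hzu : u * (x * e) * u = x * e := (hfix _ (N.mul_mem hx he)).mp hzt
  have hev : t * (u * e * u) * t = e := by rw [key e he het, invT, het, inv_inv]
  have hxv : t * (u * x * u) * t = x := by
    have h : t * (u * (x * e) * u) * t = x * e := by rw [hzu, hzt]
    rw [mulU, mulT, hev] at h
    exact mul_right_cancel h
  have hut : (t * u) * (t * u) = 1 := by
    rw [mul_assoc, ← mul_assoc u t u, ← htu, mul_assoc t u u, hu, mul_one, ht]
  calc t * u * x = t * u * x * ((u * t) * (t * u)) := by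
        rw [mul_assoc u t, ← mul_assoc t t, ht, one_mul, hu, mul_one]
    _ = (t * (u * x * u) * t) * (t * u) := by group
    _ = x * (t * u) := by rw [hxv]

variable {K : Subgroup G}

/-- The centraliser of an involution of a tightly embedded subgroup normalises it. -/
theorem centralizer_le_normalizer_of_tightlyEmbedded (hK : Cfsg.IsTightlyEmbedded K) {t : G}
    (ht : orderOf t = 2) (htK : t ∈ K) :
    centralizer ({t} : Set G) ≤ normalizer (K : Set G) := by
  intro g hg
  by_contra hn
  have hc : g * t = t * g := mem_centralizer_singleton_iff.mp hg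
  refine Cfsg.Agent.Invol.not_mem_of_odd (hK.2 g hn) ht ⟨htK, t, htK, ?_⟩
  simp [hc]

variable {A : Subgroup G}

/-- An involution centralising a standard subgroup has its centraliser inside the normaliser. -/
theorem centralizer_le_normalizer (hA : Cfsg.IsStandardSubgroup A) {t : G} (ht : orderOf t = 2)
    (htA : t ∈ centralizer (A : Set G)) :
    centralizer ({t} : Set G) ≤ normalizer (A : Set G) :=
  hA.2.2.2 ▸ centralizer_le_normalizer_of_tightlyEmbedded hA.2.1 ht htA

/-- A subgroup of the normaliser of a quasisimple subgroup `A` that lies in a normal subgroup not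
containing `A` centralises `A`. -/
theorem le_centralizer_of_le_normal (hA : Cfsg.IsQuasisimple A) {N D : Subgroup G} [hN : N.Normal]
    (hDN : D ≤ N) (hD : D ≤ normalizer (A : Set G)) (hAN : ¬ A ≤ N) :
    D ≤ centralizer (A : Set G) := by
  have h1 : ⁅D, A⁆ ≤ A := by
    rw [commutator_le]
    intro d hd a ha
    exact A.mul_mem ((mem_normalizer_iff.mp (hD hd) a).mp ha) (A.inv_mem ha)
  have h2 : ⁅D, A⁆ ≤ N := (commutator_mono hDN le_top).trans (commutator_le_left N ⊤)
  have hle : A ≤ normalizer ((A ⊓ N : Subgroup G) : Set G) := by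
    intro a ha
    rw [mem_normalizer_iff]
    intro x
    have e1 : a * x * a⁻¹ ∈ A ↔ x ∈ A := by
      rw [Subgroup.mul_mem_cancel_right _ (A.inv_mem ha), Subgroup.mul_mem_cancel_left _ ha]
    have e2 : a * x * a⁻¹ ∈ N ↔ x ∈ N := hN.mem_comm_iff.trans (by simp)
    simp only [mem_inf, e1, e2]
  rcases Components.IsQuasisimple.eq_or_commutator_eq_bot hA (inf_le_left : A ⊓ N ≤ A) hle with h | h
  · exact absurd (inf_eq_left.mp h) hAN
  · refine commutator_eq_bot_iff_le_centralizer.mp ?_
    have h3 : ⁅⁅D, A⁆, A⁆ = ⊥ := by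
      rw [eq_bot_iff, ← h, commutator_comm A]
      exact commutator_mono (le_inf h1 h2) le_rfl
    rw [commutator_comm]
    exact Components.commutator_eq_bot_of_commutator_commutator hA.1 h3

/-- A quasisimple subgroup centralises a normal subgroup as soon as one of its non-central
elements does. -/
theorem le_centralizer_of_mem (hA : Cfsg.IsQuasisimple A) (N : Subgroup G) [N.Normal] {a : G}
    (ha : a ∈ A) (hna : a ∉ centralizer (A : Set G)) (haN : a ∈ centralizer (N : Set G)) :
    A ≤ centralizer (N : Set G) := by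
  by_contra h
  refine hna (le_centralizer_of_le_normal (N := centralizer (N : Set G))
    (D := A ⊓ centralizer (N : Set G)) hA inf_le_right (inf_le_left.trans le_normalizer) h ⟨ha, haN⟩)

theorem isPGroup_zpowers_of_sq {t : G} (ht : t * t = 1) : IsPGroup 2 (zpowers t) := by
  rintro ⟨x, k, rfl⟩
  refine ⟨1, Subtype.ext ?_⟩
  show (t ^ k) ^ (2 ^ 1) = 1
  rw [pow_one, pow_two, ← zpow_add, zpow_add, ← Commute.mul_zpow (Commute.refl t), ht, one_zpow]

/-- With cyclic Sylow 2-subgroups, commuting involutions are equal. -/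
theorem eq_of_commuting_involutions [Finite G] {H : Subgroup G}
    (hcyc : ∀ R : Sylow 2 H, IsCyclic ↥(R : Subgroup H)) {z t : G} (hz : orderOf z = 2)
    (ht : orderOf t = 2) (hzH : z ∈ H) (htH : t ∈ H) (hc : Commute z t) : z = t := by
  classical
  let a : H := ⟨z, hzH⟩
  let b : H := ⟨t, htH⟩
  have ha : orderOf a = 2 := by rw [Subgroup.orderOf_mk]; exact hz
  have hb : orderOf b = 2 := by rw [Subgroup.orderOf_mk]; exact ht
  have hab : zpowers a ≤ normalizer (zpowers b : Set H) := by
    rw [zpowers_le]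
    refine Subgroup.centralizer_le_normalizer (s := ((zpowers b : Subgroup H) : Set H)) ?_
    rintro x ⟨k, rfl⟩
    exact ((show Commute a b from Subtype.ext hc).zpow_right k).eq.symm
  obtain ⟨R, hR⟩ := ((isPGroup_zpowers_of_sq (Cfsg.Agent.Invol.mul_self_of_orderOf_two ha)).to_sup_of_normal_right'
    (isPGroup_zpowers_of_sq (Cfsg.Agent.Invol.mul_self_of_orderOf_two hb)) hab).exists_le_sylow
  haveI := hcyc R
  haveI := Fintype.ofFinite (R : Subgroup H)
  by_contra hne
  let a' : (R : Subgroup H) := ⟨a, hR (le_sup_left (b := zpowers b) (mem_zpowers a))⟩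
  let b' : (R : Subgroup H) := ⟨b, hR (le_sup_right (a := zpowers a) (mem_zpowers b))⟩
  have hsub : ({1, a', b'} : Finset (R : Subgroup H)) ⊆
      Finset.univ.filter (fun x : (R : Subgroup H) => x ^ 2 = 1) := by
    intro x hx
    simp only [Finset.mem_insert, Finset.mem_singleton] at hx
    simp only [Finset.mem_filter, Finset.mem_univ, true_and]
    rcases hx with rfl | rfl | rfl
    · exact one_pow _
    · exact Subtype.ext (show a ^ 2 = 1 from ha ▸ pow_orderOf_eq_one a)
    · exact Subtype.ext (show b ^ 2 = 1 from hb ▸ pow_orderOf_eq_one b)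
  have h1 := (Finset.card_le_card hsub).trans (IsCyclic.card_pow_eq_one_le (n := 2) (by norm_num))
  have h2 : a' ≠ 1 := fun h => Cfsg.Agent.Invol.ne_one_of_orderOf_two ha (congrArg Subtype.val h)
  have h3 : b' ≠ 1 := fun h => Cfsg.Agent.Invol.ne_one_of_orderOf_two hb (congrArg Subtype.val h)
  have h4 : a' ≠ b' := fun h => hne (congrArg Subtype.val (congrArg Subtype.val h))
  rw [Finset.card_insert_of_notMem (by simp [h2.symm, h3.symm]), Finset.card_pair h4] at h1
  omega

/-- An involution normalising a subgroup of even order commutes with one of its involutions. -/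
theorem exists_commuting_involution [Finite G] {N : Subgroup G} (hN : Even (Nat.card N)) {t : G}
    (ht : t * t = 1) (htN : t ∈ normalizer (N : Set G)) :
    ∃ z ∈ N, orderOf z = 2 ∧ Commute z t := by
  haveI : Fact (Nat.Prime 2) := ⟨Nat.prime_two⟩
  letI : MulAction (zpowers t) N :=
    { smul := fun g x => ⟨(g : G) * (x : G) * (g : G)⁻¹,
          (mem_normalizer_iff.mp ((zpowers_le.mpr htN) g.2) _).mp x.2⟩
      one_smul := fun x => Subtype.ext (show (1 : G) * (x : G) * 1⁻¹ = x by group)
      mul_smul := fun g h x => Subtype.ext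
        (show ((g : G) * h) * (x : G) * ((g : G) * h)⁻¹ = g * (h * (x : G) * (h : G)⁻¹) * (g : G)⁻¹ by
          group) }
  have hmod := (isPGroup_zpowers_of_sq ht).card_modEq_card_fixedPoints N
  let e : MulAction.fixedPoints (zpowers t) N ≃ (N ⊓ centralizer ({t} : Set G) : Subgroup G) :=
    { toFun := fun x => ⟨(x.1 : G), x.1.2, mem_centralizer_singleton_iff.mpr (by
        have h' : t * (x.1 : G) * t⁻¹ = x.1 := congrArg Subtype.val (x.2 ⟨t, mem_zpowers t⟩)
        exact (mul_inv_eq_iff_eq_mul.mp h').symm)⟩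
      invFun := fun x => ⟨⟨(x : G), x.2.1⟩, fun g => Subtype.ext (by
        show (g : G) * (x : G) * (g : G)⁻¹ = x
        obtain ⟨k, hk⟩ := g.2
        have hx : Commute (x : G) t := mem_centralizer_singleton_iff.mp x.2.2
        rw [← show t ^ k = (g : G) from hk, ← (hx.zpow_right k).eq, mul_inv_cancel_right])⟩
      left_inv := fun x => rfl
      right_inv := fun x => rfl }
  rw [Nat.card_congr e] at hmod
  have heven : Even (Nat.card (N ⊓ centralizer ({t} : Set G) : Subgroup G)) := by
    rw [Nat.even_iff] at hN ⊢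
    unfold Nat.ModEq at hmod; omega
  obtain ⟨z, hz, hz2⟩ := Cfsg.Agent.Invol.exists_involution_mem heven
  exact ⟨z, hz.1, hz2, mem_centralizer_singleton_iff.mp hz.2⟩

/-- If the fixed points of `t` on a normal subgroup are fixed by a conjugate `s` of `t`, then `t`
and `s` have the same fixed points there. -/
theorem commute_iff_of_conj [Finite G] {N : Subgroup G} [hN : N.Normal] {t g : G}
    (h : ∀ x ∈ N, Commute x t → Commute x (g * t * g⁻¹)) :
    ∀ x ∈ N, Commute x t ↔ Commute x (g * t * g⁻¹) := by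
  let f : {x : N // Commute (x : G) t} → {x : N // Commute (x : G) (g * t * g⁻¹)} :=
    fun x => ⟨x.1, h _ x.1.2 x.2⟩
  let e : {x : N // Commute (x : G) t} ≃ {x : N // Commute (x : G) (g * t * g⁻¹)} :=
    { toFun := fun x => ⟨⟨g * x.1 * g⁻¹, hN.conj_mem _ x.1.2 g⟩,
        (Commute.conj_iff g).mpr x.2⟩
      invFun := fun x => ⟨⟨g⁻¹ * x.1 * g, by simpa using hN.conj_mem _ x.1.2 g⁻¹⟩, by
        have := (Commute.conj_iff g⁻¹).mpr x.2
        simpa [mul_assoc] using this⟩
      left_inv := fun x => by ext; simp [mul_assoc]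
      right_inv := fun x => by ext; simp [mul_assoc] }
  have hb : Function.Bijective f := (Nat.bijective_iff_injective_and_card f).mpr
    ⟨fun x y hxy => Subtype.ext (congrArg (fun z => z.1) hxy), Nat.card_congr e⟩
  intro x hx
  refine ⟨h x hx, fun hxs => ?_⟩
  obtain ⟨y, hy⟩ := hb.2 ⟨⟨x, hx⟩, hxs⟩
  have : (y.1 : G) = x := congrArg (fun z => (z.1 : G)) hy
  exact this ▸ y.2

/-- In a group with `2`-rank at most one, commuting involutions are equal. -/
theorem eq_of_commuting_involutions_of_rank [Finite G] {H : Subgroup G} (hr : Cfsg.PRankLE 2 1 H)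
    {z t : G} (hz : orderOf z = 2) (ht : orderOf t = 2) (hzH : z ∈ H) (htH : t ∈ H)
    (hc : Commute z t) : z = t := by
  classical
  by_contra hne
  let a : H := ⟨z, hzH⟩
  let b : H := ⟨t, htH⟩
  have hab : Commute a b := Subtype.ext hc
  have ha : a ^ 2 = 1 := Subtype.ext (show z ^ 2 = 1 from hz ▸ pow_orderOf_eq_one z)
  have hb : b ^ 2 = 1 := Subtype.ext (show t ^ 2 = 1 from ht ▸ pow_orderOf_eq_one t)
  let K := Subgroup.closure ({a, b} : Set H)
  have hK : IsMulCommutative K := Subgroup.isMulCommutative_closure (by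
    intro x hx y hy
    simp only [Set.mem_insert_iff, Set.mem_singleton_iff] at hx hy
    rcases hx with rfl | rfl <;> rcases hy with rfl | rfl <;>
      first | rfl | exact hab | exact hab.symm)
  have hK2 : ∀ x ∈ K, x ^ 2 = 1 := fun x hx => by
    induction hx using Subgroup.closure_induction with
    | mem x hx => rcases hx with rfl | rfl <;> assumption
    | one => simp
    | mul x y hx hy h1 h2 =>
      have : Commute x y := congrArg Subtype.val (hK.is_comm.comm ⟨x, hx⟩ ⟨y, hy⟩)
      rw [this.mul_pow, h1, h2, one_mul]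
    | inv x _ h1 => rw [inv_pow, h1, inv_one]
  have h4 := hr K hK hK2
  haveI := Fintype.ofFinite K
  let one' : K := 1
  let a' : K := ⟨a, Subgroup.subset_closure (by simp)⟩
  let b' : K := ⟨b, Subgroup.subset_closure (by simp)⟩
  have n1 : a' ≠ 1 := fun h => Cfsg.Agent.Invol.ne_one_of_orderOf_two hz
    (congrArg (fun x : K => ((x : H) : G)) h)
  have n2 : b' ≠ 1 := fun h => Cfsg.Agent.Invol.ne_one_of_orderOf_two ht
    (congrArg (fun x : K => ((x : H) : G)) h)
  have n3 : a' ≠ b' := fun h => hne (congrArg (fun x : K => ((x : H) : G)) h)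
  have : ({1, a', b'} : Finset K).card = 3 := by
    rw [Finset.card_insert_of_notMem (by simp [n1.symm, n2.symm]), Finset.card_pair n3]
  have h3 := Finset.card_le_univ ({1, a', b'} : Finset K)
  rw [this, ← Nat.card_eq_fintype_card] at h3
  omega

/-- A 2-subgroup of a group of `2`-rank at most one has a single involution. -/
theorem eq_of_involutions_of_rank [Finite G] {H Q : Subgroup G} (hr : Cfsg.PRankLE 2 1 H)
    (hQH : Q ≤ H) (hQ : IsPGroup 2 Q) {z t : G} (hz : orderOf z = 2) (ht : orderOf t = 2)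
    (hzQ : z ∈ Q) (htQ : t ∈ Q) : z = t := by
  haveI : Fact (Nat.Prime 2) := ⟨Nat.prime_two⟩
  haveI : Nontrivial Q := ⟨⟨⟨t, htQ⟩, 1, fun h =>
    Cfsg.Agent.Invol.ne_one_of_orderOf_two ht (congrArg Subtype.val h)⟩⟩
  haveI := hQ.center_nontrivial
  obtain ⟨k, hk0, hk⟩ := (hQ.to_subgroup (Subgroup.center Q)).nontrivial_iff_card.mp inferInstance
  obtain ⟨c, hc⟩ := exists_prime_orderOf_dvd_card' (G := Subgroup.center Q) 2
    (hk ▸ dvd_pow_self 2 hk0.ne')
  have hco : orderOf ((c : Q) : G) = 2 := by rw [Subgroup.orderOf_coe, Subgroup.orderOf_coe, hc]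
  have hcc : ∀ {x : G}, x ∈ Q → Commute x ((c : Q) : G) := fun {x} hx =>
    congrArg Subtype.val (Subgroup.mem_center_iff.mp c.2 ⟨x, hx⟩)
  rw [eq_of_commuting_involutions_of_rank hr hz hco (hQH hzQ) (hQH (c : Q).2) (hcc hzQ),
    eq_of_commuting_involutions_of_rank hr ht hco (hQH htQ) (hQH (c : Q).2) (hcc htQ)]

end Cfsg.Agent.StdSub
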